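import Groth.Agent.H5.Stalk.Exact

/-!
# Exactness of complexes of modules on a scheme is detected on stalks; the skyscraper functor is exact
-/

set_option autoImplicit false
universe u
open CategoryTheory CategoryTheory.Limits AlgebraicGeometry TopologicalSpace Opposite

namespace Groth.Agent.H5.Stalk

variable {X : Scheme.{u}}

/-- a module whose stalks are all zero is zero -/
lemma isZero_of_isZero_stalks (M : X.Modules) (h : ∀ x : X, IsZero ((stalkFunctor x).obj M)) :
    IsZero M := by
  obtain ⟨Z, hz⟩ := HasZeroObject.zero (C := X.Modules)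
  have : Mono (0 : M ⟶ Z) := mono_of_mono_stalkFunctor_map _ (fun x => by
    constructor
    intro Z u v _
    exact (h x).eq_of_tgt u v)
  exact IsZero.of_mono (0 : M ⟶ Z) hz

/-- exactness of a short complex is detected on stalks -/
lemma shortComplex_exact_iff_stalk (S : ShortComplex X.Modules) :
    S.Exact ↔ ∀ x : X, (S.map (stalkFunctor x)).Exact := by
  constructor
  · intro h x
    exact h.map (stalkFunctor x)
  · intro h
    rw [ShortComplex.exact_iff_isZero_homology]
    refine isZero_of_isZero_stalks _ (fun x => ?_)
    exact IsZero.of_iso ((ShortComplex.exact_iff_isZero_homology _).1 (h x))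
      (S.mapHomologyIso (stalkFunctor x)).symm

/-- exactness of a complex is detected on stalks -/
lemma exactAt_iff_stalk (C : CochainComplex X.Modules ℤ) (i : ℤ) :
    C.ExactAt i ↔
      ∀ x : X, (((stalkFunctor x).mapHomologicalComplex (ComplexShape.up ℤ)).obj C).ExactAt i :=
  shortComplex_exact_iff_stalk (C.sc i)

/-- a sectionwise surjective morphism of modules is an epimorphism -/
lemma epi_of_app_surjective {M N : X.Modules} (φ : M ⟶ N)
    (h : ∀ U : X.Opens, Function.Surjective (φ.app U)) : Epi φ := by
  constructor
  intro P g₁ g₂ hg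
  ext U n
  obtain ⟨m, rfl⟩ := h U n
  have h1 : (φ ≫ g₁).app U m = (φ ≫ g₂).app U m := by rw [hg]
  exact h1

instance (x : X) : (skyFunctor x).PreservesEpimorphisms where
  preserves {N N'} g _ := by
    have hg : Function.Surjective g.hom := (ModuleCat.epi_iff_surjective g).1 inferInstance
    refine epi_of_app_surjective _ (fun U n' => ?_)
    refine ⟨(fun h => (hg ((n' : SkyCarrier x N' U) h)).choose : SkyCarrier x N U), ?_⟩
    exact funext (fun h => (hg ((n' : SkyCarrier x N' U) h)).choose_spec)

instance (x : X) : (skyFunctor x).IsRightAdjoint := (stalkSkyAdjunction x).isRightAdjoint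

attribute [local instance] preservesBinaryBiproducts_of_preservesBinaryProducts in
instance (x : X) : (skyFunctor x).Additive := Functor.additive_of_preservesBinaryBiproducts _

instance (x : X) : PreservesFiniteColimits (skyFunctor x) := by
  rw [Functor.preservesFiniteColimits_iff_forall_exact_map_and_epi]
  intro S hS
  have := hS.epi_g
  have := hS.mono_f
  refine ⟨?_, inferInstanceAs (Epi ((skyFunctor x).map S.g))⟩
  exact hS.exact.map_of_mono_of_preservesKernel (skyFunctor x) inferInstance inferInstance

/-- the skyscraper functor preserves exactness of complexes -/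
lemma exactAt_sky (x : X) (C : CochainComplex (ModuleCat.{u} (X.presheaf.stalk x)) ℤ) (i : ℤ)
    (h : C.ExactAt i) :
    (((skyFunctor x).mapHomologicalComplex (ComplexShape.up ℤ)).obj C).ExactAt i :=
  ShortComplex.Exact.map (S := C.sc i) h (skyFunctor x)

/-- the counit of the stalk-skyscraper adjunction is an isomorphism -/
instance isIso_counit_app (x : X) (N : ModuleCat.{u} (X.presheaf.stalk x)) :
    IsIso ((stalkSkyAdjunction x).counit.app N) := by
  rw [ConcreteCategory.isIso_iff_bijective]
  have hc : ∀ (U : X.Opens) (hx : x ∈ U) (φ : SkyCarrier x N U),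
      ((stalkSkyAdjunction x).counit.app N).hom
        ((sky x N).presheaf.germ U x hx φ) = φ ⟨hx⟩ := by
    intro U hx φ
    exact fromSky_germ x (𝟙 (sky x N)) U hx φ
  constructor
  · rw [injective_iff_map_eq_zero]
    intro a ha
    obtain ⟨U, hx, φ, rfl⟩ := (sky x N).presheaf.exists_germ_eq a
    have h0 : φ = 0 := by
      refine funext (fun h => ?_)
      have := (hc U hx φ).symm.trans ha
      exact this
    rw [h0, map_zero]
    rfl
  · intro n
    exact ⟨(sky x N).presheaf.germ ⊤ x trivial (fun _ => n : SkyCarrier x N ⊤), hc ⊤ trivial _⟩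

instance isIso_counit (x : X) : IsIso (stalkSkyAdjunction x).counit :=
  NatIso.isIso_of_isIso_app _

end Groth.Agent.H5.Stalk
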