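import Groth.Agent.H5.Stalk.Exact
import Groth.Prelude.Def_KoszTw

/-!
# The stalk of a tensor product of modules on a scheme
-/

set_option autoImplicit false
universe u
open CategoryTheory CategoryTheory.Limits AlgebraicGeometry TopologicalSpace Opposite TensorProduct
  MonoidalCategory

namespace Groth.Agent.H5.Stalk.Tensor

variable {X : Scheme.{u}}

section Sections

variable (F G : X.Modules)

/-- the section `s ⊗ t` of `F ⊗ G` over `U` -/
noncomputable def tm (U : X.Opens) (s : Γ(F, U)) (t : Γ(G, U)) : Γ(CohB1.tensorMod F G, U) :=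
  SecTwist.tmul F G U s t

lemma tm_add_left (U : X.Opens) (s s' : Γ(F, U)) (t : Γ(G, U)) :
    tm F G U (s + s') t = tm F G U s t + tm F G U s' t := by
  unfold tm SecTwist.tmul
  erw [TensorProduct.add_tmul, map_add]
  rfl

lemma tm_add_right (U : X.Opens) (s : Γ(F, U)) (t t' : Γ(G, U)) :
    tm F G U s (t + t') = tm F G U s t + tm F G U s t' := by
  unfold tm SecTwist.tmul
  erw [TensorProduct.tmul_add, map_add]
  rfl

lemma tm_smul_left (U : X.Opens) (r : Γ(X, U)) (s : Γ(F, U)) (t : Γ(G, U)) :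
    tm F G U (r • s) t = r • tm F G U s t := by
  unfold tm SecTwist.tmul
  let r' : ↑((X.sheaf.obj ⋙ forget₂ CommRingCat RingCat).obj (op U)) := r
  let s' : ↑((CohB1.toPMod F).obj (op U)) := s
  let t' : ↑((CohB1.toPMod G).obj (op U)) := t
  have h1 : ((r' • s') ⊗ₜ[↑((X.sheaf.obj ⋙ forget₂ CommRingCat RingCat).obj (op U))] t') =
      r' • (s' ⊗ₜ t') := (TensorProduct.smul_tmul' r' s' t').symm
  exact (congrArg ((SecTwist.toTensor F G).app (op U)).hom h1).trans (map_smul _ r' _)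

lemma tm_smul_right (U : X.Opens) (r : Γ(X, U)) (s : Γ(F, U)) (t : Γ(G, U)) :
    tm F G U s (r • t) = r • tm F G U s t := by
  unfold tm SecTwist.tmul
  let r' : ↑((X.sheaf.obj ⋙ forget₂ CommRingCat RingCat).obj (op U)) := r
  let s' : ↑((CohB1.toPMod F).obj (op U)) := s
  let t' : ↑((CohB1.toPMod G).obj (op U)) := t
  have h1 : (s' ⊗ₜ[↑((X.sheaf.obj ⋙ forget₂ CommRingCat RingCat).obj (op U))] (r' • t')) =
      r' • (s' ⊗ₜ t') := TensorProduct.tmul_smul r' s' t'
  exact (congrArg ((SecTwist.toTensor F G).app (op U)).hom h1).trans (map_smul _ r' _)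

lemma tm_res {U V : X.Opens} (i : V ⟶ U) (s : Γ(F, U)) (t : Γ(G, U)) :
    (CohB1.tensorMod F G).presheaf.map i.op (tm F G U s t) =
      tm F G V (F.presheaf.map i.op s) (G.presheaf.map i.op t) :=
  SecTwist.map_tmul F G i s t

end Sections

section Germ

variable (x : X) (F G : X.Modules)

/-- the germ at `x` of the section `s ⊗ t` -/
noncomputable def tg (U : X.Opens) (hx : x ∈ U) (s : Γ(F, U)) (t : Γ(G, U)) :
    (CohB1.tensorMod F G).presheaf.stalk x :=
  (CohB1.tensorMod F G).presheaf.germ U x hx (tm F G U s t)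

lemma tg_res {U V : X.Opens} (i : V ⟶ U) (hx : x ∈ V) (s : Γ(F, U)) (t : Γ(G, U)) :
    tg x F G V hx (F.presheaf.map i.op s) (G.presheaf.map i.op t) = tg x F G U (i.le hx) s t := by
  unfold tg
  rw [← tm_res]
  exact TopCat.Presheaf.germ_res_apply _ i x hx _

lemma tg_add_left (U : X.Opens) (hx : x ∈ U) (s s' : Γ(F, U)) (t : Γ(G, U)) :
    tg x F G U hx (s + s') t = tg x F G U hx s t + tg x F G U hx s' t := by
  unfold tg
  rw [tm_add_left, map_add]

lemma tg_add_right (U : X.Opens) (hx : x ∈ U) (s : Γ(F, U)) (t t' : Γ(G, U)) :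
    tg x F G U hx s (t + t') = tg x F G U hx s t + tg x F G U hx s t' := by
  unfold tg
  rw [tm_add_right, map_add]

lemma tg_smul_left (U : X.Opens) (hx : x ∈ U) (r : Γ(X, U)) (s : Γ(F, U)) (t : Γ(G, U)) :
    tg x F G U hx (r • s) t = X.presheaf.germ U x hx r • tg x F G U hx s t := by
  unfold tg
  rw [tm_smul_left, germ_smul]

lemma tg_smul_right (U : X.Opens) (hx : x ∈ U) (r : Γ(X, U)) (s : Γ(F, U)) (t : Γ(G, U)) :
    tg x F G U hx s (r • t) = X.presheaf.germ U x hx r • tg x F G U hx s t := by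
  unfold tg
  rw [tm_smul_right, germ_smul]

lemma res_eq_of_res_eq (M : X.Modules) {U U' W₁ W : X.Opens} (iU : W₁ ⟶ U) (iU' : W₁ ⟶ U')
    (s : Γ(M, U)) (s' : Γ(M, U')) (h : M.presheaf.map iU.op s = M.presheaf.map iU'.op s')
    (j : W ⟶ W₁) (k : W ⟶ U) (k' : W ⟶ U') :
    M.presheaf.map k.op s = M.presheaf.map k'.op s' := by
  have hk : k = j ≫ iU := Subsingleton.elim _ _
  have hk' : k' = j ≫ iU' := Subsingleton.elim _ _
  rw [hk, hk', op_comp, op_comp, Functor.map_comp, Functor.map_comp]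
  exact congrArg (M.presheaf.map j.op) h

lemma tg_congr {U U' : X.Opens} (hx : x ∈ U) (hx' : x ∈ U') (s : Γ(F, U)) (s' : Γ(F, U'))
    (t : Γ(G, U)) (t' : Γ(G, U'))
    (hs : F.presheaf.germ U x hx s = F.presheaf.germ U' x hx' s')
    (ht : G.presheaf.germ U x hx t = G.presheaf.germ U' x hx' t') :
    tg x F G U hx s t = tg x F G U' hx' s' t' := by
  obtain ⟨W₁, hW₁, i₁, i₁', h₁⟩ := TopCat.Presheaf.germ_eq F.presheaf x hx hx' s s' hs
  obtain ⟨W₂, hW₂, i₂, i₂', h₂⟩ := TopCat.Presheaf.germ_eq G.presheaf x hx hx' t t' ht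
  let W : X.Opens := W₁ ⊓ W₂
  have hW : x ∈ W := ⟨hW₁, hW₂⟩
  let k : W ⟶ U := homOfLE inf_le_left ≫ i₁
  let k' : W ⟶ U' := homOfLE inf_le_left ≫ i₁'
  rw [← tg_res x F G k hW s t, ← tg_res x F G k' hW s' t',
    res_eq_of_res_eq F i₁ i₁' s s' h₁ (homOfLE inf_le_left) k k',
    res_eq_of_res_eq G i₂ i₂' t t' h₂ (homOfLE inf_le_right) k k']

lemma exists_reps (a : F.presheaf.stalk x) (c : G.presheaf.stalk x) :
    ∃ (U : X.Opens) (hx : x ∈ U) (s : Γ(F, U)) (t : Γ(G, U)),
      F.presheaf.germ U x hx s = a ∧ G.presheaf.germ U x hx t = c := by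
  obtain ⟨U₁, h₁, s₁, rfl⟩ := F.presheaf.exists_germ_eq a
  obtain ⟨U₂, h₂, t₂, rfl⟩ := G.presheaf.exists_germ_eq c
  exact ⟨U₁ ⊓ U₂, ⟨h₁, h₂⟩, F.presheaf.map (homOfLE inf_le_left).op s₁,
    G.presheaf.map (homOfLE inf_le_right).op t₂,
    TopCat.Presheaf.germ_res_apply _ _ _ _ _, TopCat.Presheaf.germ_res_apply _ _ _ _ _⟩

/-- the bilinear pairing `F_x × G_x → (F ⊗ G)_x` -/
noncomputable def b (a : F.presheaf.stalk x) (c : G.presheaf.stalk x) :
    (CohB1.tensorMod F G).presheaf.stalk x :=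
  tg x F G (exists_reps x F G a c).choose (exists_reps x F G a c).choose_spec.choose
    (exists_reps x F G a c).choose_spec.choose_spec.choose
    (exists_reps x F G a c).choose_spec.choose_spec.choose_spec.choose

lemma b_germ (U : X.Opens) (hx : x ∈ U) (s : Γ(F, U)) (t : Γ(G, U)) :
    b x F G (F.presheaf.germ U x hx s) (G.presheaf.germ U x hx t) = tg x F G U hx s t := by
  have h := (exists_reps x F G (F.presheaf.germ U x hx s)
    (G.presheaf.germ U x hx t)).choose_spec.choose_spec.choose_spec.choose_spec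
  exact tg_congr x F G _ hx _ s _ t h.1 h.2

lemma b_add_left (a a' : F.presheaf.stalk x) (c : G.presheaf.stalk x) :
    b x F G (a + a') c = b x F G a c + b x F G a' c := by
  obtain ⟨U₁, h₁, s₁, t₁, rfl, rfl⟩ := exists_reps x F G a c
  obtain ⟨U₂, h₂, s₂, rfl⟩ := F.presheaf.exists_germ_eq a'
  let W : X.Opens := U₁ ⊓ U₂
  have hW : x ∈ W := ⟨h₁, h₂⟩
  let i₁ : W ⟶ U₁ := homOfLE inf_le_left
  let i₂ : W ⟶ U₂ := homOfLE inf_le_right
  rw [← TopCat.Presheaf.germ_res_apply F.presheaf i₁ x hW s₁,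
    ← TopCat.Presheaf.germ_res_apply G.presheaf i₁ x hW t₁,
    ← TopCat.Presheaf.germ_res_apply F.presheaf i₂ x hW s₂, ← map_add, b_germ, b_germ, b_germ,
    tg_add_left]

lemma b_add_right (a : F.presheaf.stalk x) (c c' : G.presheaf.stalk x) :
    b x F G a (c + c') = b x F G a c + b x F G a c' := by
  obtain ⟨U₁, h₁, s₁, t₁, rfl, rfl⟩ := exists_reps x F G a c
  obtain ⟨U₂, h₂, t₂, rfl⟩ := G.presheaf.exists_germ_eq c'
  let W : X.Opens := U₁ ⊓ U₂
  have hW : x ∈ W := ⟨h₁, h₂⟩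
  let i₁ : W ⟶ U₁ := homOfLE inf_le_left
  let i₂ : W ⟶ U₂ := homOfLE inf_le_right
  rw [← TopCat.Presheaf.germ_res_apply F.presheaf i₁ x hW s₁,
    ← TopCat.Presheaf.germ_res_apply G.presheaf i₁ x hW t₁,
    ← TopCat.Presheaf.germ_res_apply G.presheaf i₂ x hW t₂, ← map_add, b_germ, b_germ, b_germ,
    tg_add_right]

lemma b_smul_left (r : X.presheaf.stalk x) (a : F.presheaf.stalk x) (c : G.presheaf.stalk x) :
    b x F G (r • a) c = r • b x F G a c := by
  obtain ⟨U₁, h₁, s₁, t₁, rfl, rfl⟩ := exists_reps x F G a c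
  obtain ⟨U₂, h₂, r₂, rfl⟩ := X.presheaf.exists_germ_eq r
  let W : X.Opens := U₁ ⊓ U₂
  have hW : x ∈ W := ⟨h₁, h₂⟩
  let i₁ : W ⟶ U₁ := homOfLE inf_le_left
  let i₂ : W ⟶ U₂ := homOfLE inf_le_right
  rw [← TopCat.Presheaf.germ_res_apply F.presheaf i₁ x hW s₁,
    ← TopCat.Presheaf.germ_res_apply G.presheaf i₁ x hW t₁,
    ← TopCat.Presheaf.germ_res_apply X.presheaf i₂ x hW r₂, ← germ_smul, b_germ, b_germ,
    tg_smul_left]

lemma b_smul_right (r : X.presheaf.stalk x) (a : F.presheaf.stalk x) (c : G.presheaf.stalk x) :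
    b x F G a (r • c) = r • b x F G a c := by
  obtain ⟨U₁, h₁, s₁, t₁, rfl, rfl⟩ := exists_reps x F G a c
  obtain ⟨U₂, h₂, r₂, rfl⟩ := X.presheaf.exists_germ_eq r
  let W : X.Opens := U₁ ⊓ U₂
  have hW : x ∈ W := ⟨h₁, h₂⟩
  let i₁ : W ⟶ U₁ := homOfLE inf_le_left
  let i₂ : W ⟶ U₂ := homOfLE inf_le_right
  rw [← TopCat.Presheaf.germ_res_apply F.presheaf i₁ x hW s₁,
    ← TopCat.Presheaf.germ_res_apply G.presheaf i₁ x hW t₁,
    ← TopCat.Presheaf.germ_res_apply X.presheaf i₂ x hW r₂, ← germ_smul, b_germ, b_germ,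
    tg_smul_right]

end Germ

section Iso

variable (x : X) (F G : X.Modules)

/-- the germ map, with values in the module `M_x` -/
noncomputable def gm (M : X.Modules) (U : X.Opens) (hx : x ∈ U) :
    Γ(M, U) →+ ((stalkFunctor x).obj M : Type u) :=
  (M.presheaf.germ U x hx).hom

lemma gm_apply (M : X.Modules) (U : X.Opens) (hx : x ∈ U) (m : Γ(M, U)) :
    gm x M U hx m = M.presheaf.germ U x hx m := rfl

lemma gm_smul (M : X.Modules) (U : X.Opens) (hx : x ∈ U) (r : Γ(X, U)) (m : Γ(M, U)) :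
    gm x M U hx (r • m) = X.presheaf.germ U x hx r • gm x M U hx m :=
  germ_smul M x U hx r m

lemma gm_res (M : X.Modules) {U V : X.Opens} (i : V ⟶ U) (hx : x ∈ V) (m : Γ(M, U)) :
    gm x M V hx (M.presheaf.map i.op m) = gm x M U (i.le hx) m :=
  TopCat.Presheaf.germ_res_apply M.presheaf i x hx m

lemma exists_gm_eq (M : X.Modules) (a : ((stalkFunctor x).obj M : Type u)) :
    ∃ (U : X.Opens) (hx : x ∈ U) (m : Γ(M, U)), gm x M U hx m = a :=
  M.presheaf.exists_germ_eq (a : M.presheaf.stalk x)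

lemma stalkFunctor_map_gm {M M' : X.Modules} (φ : M ⟶ M') (U : X.Opens) (hx : x ∈ U)
    (m : Γ(M, U)) :
    ((stalkFunctor x).map φ).hom (gm x M U hx m) = gm x M' U hx (φ.app U m) :=
  stalkFunctor_map_germ x φ U hx m

/-- `F_x ⊗ G_x` -/
noncomputable abbrev N : ModuleCat.{u} (X.presheaf.stalk x) :=
  (stalkFunctor x).obj F ⊗ (stalkFunctor x).obj G

/-- the map `F_x ⊗ G_x ⟶ (F ⊗ G)_x` -/
noncomputable def β : N x F G ⟶ (stalkFunctor x).obj (CohB1.tensorMod F G) :=
  ModuleCat.MonoidalCategory.tensorLift (M₁ := (stalkFunctor x).obj F)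
    (M₂ := (stalkFunctor x).obj G) (M₃ := (stalkFunctor x).obj (CohB1.tensorMod F G))
    (b x F G) (b_add_left x F G) (b_smul_left x F G) (b_add_right x F G) (b_smul_right x F G)

lemma β_tmul (U : X.Opens) (hx : x ∈ U) (s : Γ(F, U)) (t : Γ(G, U)) :
    (β x F G).hom (gm x F U hx s ⊗ₜ gm x G U hx t) = gm x _ U hx (tm F G U s t) :=
  b_germ x F G U hx s t

/-- the pairing on sections with values in the skyscraper module -/
noncomputable def secPair (U : X.Opens) (s : Γ(F, U)) (t : Γ(G, U)) : SkyCarrier x (N x F G) U :=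
  fun h => gm x F U h.down s ⊗ₜ gm x G U h.down t

lemma secPair_apply (U : X.Opens) (s : Γ(F, U)) (t : Γ(G, U)) (h : PLift (x ∈ U)) :
    secPair x F G U s t h = gm x F U h.down s ⊗ₜ gm x G U h.down t := rfl

lemma secPair_add_left (U : X.Opens) (s s' : Γ(F, U)) (t : Γ(G, U)) :
    secPair x F G U (s + s') t = secPair x F G U s t + secPair x F G U s' t := by
  refine funext (fun h => ?_)
  change gm x F U h.down (s + s') ⊗ₜ gm x G U h.down t = _
  rw [map_add, TensorProduct.add_tmul]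
  rfl

lemma secPair_add_right (U : X.Opens) (s : Γ(F, U)) (t t' : Γ(G, U)) :
    secPair x F G U s (t + t') = secPair x F G U s t + secPair x F G U s t' := by
  refine funext (fun h => ?_)
  change gm x F U h.down s ⊗ₜ gm x G U h.down (t + t') = _
  rw [map_add, TensorProduct.tmul_add]
  rfl

lemma secPair_smul_left (U : X.Opens) (r : Γ(X, U)) (s : Γ(F, U)) (t : Γ(G, U)) :
    secPair x F G U (r • s) t = r • secPair x F G U s t := by
  refine funext (fun h => ?_)
  change gm x F U h.down (r • s) ⊗ₜ gm x G U h.down t = _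
  rw [gm_smul, ← TensorProduct.smul_tmul']
  rfl

lemma secPair_smul_right (U : X.Opens) (r : Γ(X, U)) (s : Γ(F, U)) (t : Γ(G, U)) :
    secPair x F G U s (r • t) = r • secPair x F G U s t := by
  refine funext (fun h => ?_)
  change gm x F U h.down s ⊗ₜ gm x G U h.down (r • t) = _
  rw [gm_smul, TensorProduct.tmul_smul]
  rfl

lemma secPair_res {U V : X.Opens} (i : V ⟶ U) (s : Γ(F, U)) (t : Γ(G, U)) (h : PLift (x ∈ V)) :
    secPair x F G V (F.presheaf.map i.op s) (G.presheaf.map i.op t) h =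
      secPair x F G U s t ⟨i.le h.down⟩ := by
  rw [secPair_apply, secPair_apply, gm_res, gm_res]

/-- the presheaf morphism from the sectionwise tensor product to the skyscraper module -/
noncomputable def pPre : (CohB1.tensorPre F G : X.PresheafOfModules) ⟶
    (PresheafOfModules.restrictScalars (𝟙 X.ringCatSheaf.obj)).obj (sky x (N x F G)).val where
  app U := ModuleCat.MonoidalCategory.tensorLift (M₁ := (CohB1.toPMod F).obj U)
    (M₂ := (CohB1.toPMod G).obj U)
    (M₃ := ((PresheafOfModules.restrictScalars (𝟙 X.ringCatSheaf.obj)).obj (sky x (N x F G)).val).obj U)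
    (fun s t => secPair x F G U.unop s t)
    (fun s s' t => secPair_add_left x F G U.unop s s' t)
    (fun r s t => secPair_smul_left x F G U.unop r s t)
    (fun s t t' => secPair_add_right x F G U.unop s t t')
    (fun r s t => secPair_smul_right x F G U.unop r s t)
  naturality {U V} f := by
    refine ModuleCat.MonoidalCategory.tensor_ext (fun s t => ?_)
    change secPair x F G V.unop (F.presheaf.map f s) (G.presheaf.map f t) =
      (fun h => secPair x F G U.unop s t ⟨f.unop.le h.down⟩ : SkyCarrier x (N x F G) V.unop)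
    exact funext (fun h => secPair_res x F G f.unop s t h)

lemma pPre_app_tmul (U : X.Opens) (s : Γ(F, U)) (t : Γ(G, U)) :
    ((pPre x F G).app (op U)).hom (s ⊗ₜ t) = secPair x F G U s t := rfl

/-- the sheafification adjunction for modules on `X` -/
noncomputable abbrev shAdj (X : Scheme.{u}) :=
  PresheafOfModules.sheafificationAdjunction.{u, u, u, u}
    (J := Opens.grothendieckTopology X) (𝟙 X.ringCatSheaf.obj)

/-- the map `F ⊗ G ⟶ sky (F_x ⊗ G_x)` -/
noncomputable def ψ : CohB1.tensorMod F G ⟶ sky x (N x F G) :=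
  ((shAdj X).homEquiv (CohB1.tensorPre F G : X.PresheafOfModules) (sky x (N x F G))).symm
    (pPre x F G)

lemma ψ_tm (U : X.Opens) (s : Γ(F, U)) (t : Γ(G, U)) :
    (ψ x F G).app U (tm F G U s t) = secPair x F G U s t := by
  have h : (shAdj X).homEquiv _ _ (ψ x F G) = pPre x F G := Equiv.apply_symm_apply _ _
  rw [Adjunction.homEquiv_unit] at h
  let s' : ↑((CohB1.toPMod F).obj (op U)) := s
  let t' : ↑((CohB1.toPMod G).obj (op U)) := t
  have h2 := congrArg (fun φ => (PresheafOfModules.Hom.app φ (op U)).hom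
    (s' ⊗ₜ[↑((X.sheaf.obj ⋙ forget₂ CommRingCat RingCat).obj (op U))] t')) h
  exact h2

/-- the map `(F ⊗ G)_x ⟶ F_x ⊗ G_x` -/
noncomputable def γ : (stalkFunctor x).obj (CohB1.tensorMod F G) ⟶ N x F G :=
  fromSky x (ψ x F G)

lemma γ_tm (U : X.Opens) (hx : x ∈ U) (s : Γ(F, U)) (t : Γ(G, U)) :
    (γ x F G).hom (gm x _ U hx (tm F G U s t)) = gm x F U hx s ⊗ₜ gm x G U hx t := by
  refine (fromSky_germ x (ψ x F G) U hx (tm F G U s t)).trans ?_
  rw [evalψ_apply, ψ_tm]
  rfl

/-- morphisms out of `(F ⊗ G)_x` are determined by their values on the germs of `s ⊗ t` -/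
lemma hom_ext_stalk_tensor {M : ModuleCat.{u} (X.presheaf.stalk x)}
    (u v : (stalkFunctor x).obj (CohB1.tensorMod F G) ⟶ M)
    (h : ∀ (U : X.Opens) (hx : x ∈ U) (s : Γ(F, U)) (t : Γ(G, U)),
      u.hom (gm x _ U hx (tm F G U s t)) = v.hom (gm x _ U hx (tm F G U s t))) : u = v := by
  have h1 : toSky x u = toSky x v := by
    apply ((shAdj X).homEquiv (CohB1.tensorPre F G : X.PresheafOfModules) (sky x M)).injective
    rw [Adjunction.homEquiv_unit, Adjunction.homEquiv_unit]
    ext U : 1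
    refine ModuleCat.MonoidalCategory.tensor_ext (M₁ := (CohB1.toPMod F).obj U)
      (M₂ := (CohB1.toPMod G).obj U) (fun s t => ?_)
    exact funext (fun hh => h U.unop hh.down s t)
  calc u = fromSky x (toSky x u) := (fromSky_toSky x u).symm
    _ = fromSky x (toSky x v) := by rw [h1]
    _ = v := fromSky_toSky x v

lemma γ_β : γ x F G ≫ β x F G = 𝟙 _ := by
  refine hom_ext_stalk_tensor x F G _ _ (fun U hx s t => ?_)
  change (β x F G).hom ((γ x F G).hom (gm x _ U hx (tm F G U s t))) = _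
  rw [γ_tm, β_tmul]
  rfl

lemma β_γ : β x F G ≫ γ x F G = 𝟙 _ := by
  refine ModuleCat.MonoidalCategory.tensor_ext (fun a c => ?_)
  obtain ⟨U, hx, s, t, rfl, rfl⟩ := exists_reps x F G a c
  change (γ x F G).hom ((β x F G).hom (gm x F U hx s ⊗ₜ gm x G U hx t)) = _
  rw [β_tmul, γ_tm]
  rfl

/-- the stalk of a tensor product is the tensor product of the stalks -/
noncomputable def stalkTensorIso : (stalkFunctor x).obj (CohB1.tensorMod F G) ≅ N x F G where
  hom := γ x F G
  inv := β x F G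
  hom_inv_id := γ_β x F G
  inv_hom_id := β_γ x F G

variable {F G} in
lemma stalkTensorIso_hom_naturality {F' G' : X.Modules} (f : F ⟶ F') (g : G ⟶ G') :
    (stalkFunctor x).map (KoszTw.tensorMap f g) ≫ (stalkTensorIso x F' G').hom =
      (stalkTensorIso x F G).hom ≫ ((stalkFunctor x).map f ⊗ₘ (stalkFunctor x).map g) := by
  refine hom_ext_stalk_tensor x F G _ _ (fun U hx s t => ?_)
  change (γ x F' G').hom (((stalkFunctor x).map (KoszTw.tensorMap f g)).hom
      (gm x _ U hx (tm F G U s t))) =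
    ((stalkFunctor x).map f ⊗ₘ (stalkFunctor x).map g).hom
      ((γ x F G).hom (gm x _ U hx (tm F G U s t)))
  rw [stalkFunctor_map_gm, γ_tm]
  have h1 : (KoszTw.tensorMap f g).app U (tm F G U s t) = tm F' G' U (f.app U s) (g.app U t) :=
    KoszTw.tensorMap_tmul f g U s t
  rw [h1, γ_tm]
  erw [ModuleCat.MonoidalCategory.tensorHom_tmul]
  rw [stalkFunctor_map_gm, stalkFunctor_map_gm]

lemma stalkTensorIso_hom_naturality_left {F F' : X.Modules} (f : F ⟶ F') (G : X.Modules) :
    (stalkFunctor x).map ((DCoh.tensorBi.map f).app G) ≫ (stalkTensorIso x F' G).hom =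
      (stalkTensorIso x F G).hom ≫ ((stalkFunctor x).map f ▷ (stalkFunctor x).obj G) := by
  have h := stalkTensorIso_hom_naturality x f (𝟙 G)
  rw [CategoryTheory.Functor.map_id, MonoidalCategory.tensorHom_id] at h
  rw [KoszTw.tensorBi_map_app]
  exact h

lemma stalkTensorIso_hom_naturality_right (F : X.Modules) {G G' : X.Modules} (g : G ⟶ G') :
    (stalkFunctor x).map ((DCoh.tensorBi.obj F).map g) ≫ (stalkTensorIso x F G').hom =
      (stalkTensorIso x F G).hom ≫ ((stalkFunctor x).obj F ◁ (stalkFunctor x).map g) := by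
  have h := stalkTensorIso_hom_naturality x (𝟙 F) g
  rw [CategoryTheory.Functor.map_id, MonoidalCategory.id_tensorHom] at h
  rw [KoszTw.tensorBi_obj_map]
  exact h

end Iso

end Groth.Agent.H5.Stalk.Tensor
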