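import Groth.Prelude.Def_FlatMod2

/-!
# The stalk functor on modules over a scheme
-/

set_option autoImplicit false
universe u
open CategoryTheory AlgebraicGeometry TopologicalSpace Opposite

namespace Groth.Agent.H5.Stalk

variable {X : Scheme.{u}}

lemma germ_smul (M : X.Modules) (x : X) (U : X.Opens) (hx : x ∈ U) (r : Γ(X, U)) (m : Γ(M, U)) :
    M.presheaf.germ U x hx (r • m) = X.presheaf.germ U x hx r • M.presheaf.germ U x hx m :=
  PresheafOfModules.germ_smul (R := X.presheaf)
    (show PresheafOfModules (X.presheaf ⋙ forget₂ CommRingCat RingCat) from M.val) x U hx r m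

/-- common representatives for a germ of function and a germ of section -/
lemma exists_germ_eq₂ (M : X.Modules) (x : X) (r : X.presheaf.stalk x) (m : M.presheaf.stalk x) :
    ∃ (U : X.Opens) (hx : x ∈ U) (r' : Γ(X, U)) (m' : Γ(M, U)),
      X.presheaf.germ U x hx r' = r ∧ M.presheaf.germ U x hx m' = m := by
  obtain ⟨U₁, h₁, r₁, rfl⟩ := X.presheaf.exists_germ_eq r
  obtain ⟨U₂, h₂, m₂, rfl⟩ := M.presheaf.exists_germ_eq m
  refine ⟨U₁ ⊓ U₂, ⟨h₁, h₂⟩, X.presheaf.map (homOfLE inf_le_left).op r₁,
    M.presheaf.map (homOfLE inf_le_right).op m₂, ?_, ?_⟩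
  · exact TopCat.Presheaf.germ_res_apply _ _ _ _ _
  · exact TopCat.Presheaf.germ_res_apply _ _ _ _ _

/-- The stalk functor on modules. -/
noncomputable def stalkFunctor (x : X) : X.Modules ⥤ ModuleCat.{u} (X.presheaf.stalk x) where
  obj M := ModuleCat.of _ (M.presheaf.stalk x)
  map {M N} φ := ModuleCat.ofHom
    { toFun := fun m => (TopCat.Presheaf.stalkFunctor Ab x).map φ.mapPresheaf m
      map_add' := fun a b => map_add _ a b
      map_smul' := fun r m => by
        obtain ⟨U, hx, r', m', rfl, rfl⟩ := exists_germ_eq₂ M x r m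
        dsimp
        rw [← germ_smul]
        erw [TopCat.Presheaf.stalkFunctor_map_germ_apply, TopCat.Presheaf.stalkFunctor_map_germ_apply]
        rw [← germ_smul]
        congr 1
        exact φ.app_smul r' m' }
  map_id M := by
    ext m
    change (TopCat.Presheaf.stalkFunctor Ab x).map ((Scheme.Modules.toPresheaf X).map (𝟙 M)) m = m
    rw [CategoryTheory.Functor.map_id, CategoryTheory.Functor.map_id]
    rfl
  map_comp {M N P} φ ψ := by
    ext m
    change (TopCat.Presheaf.stalkFunctor Ab x).map ((Scheme.Modules.toPresheaf X).map (φ ≫ ψ)) m =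
      (TopCat.Presheaf.stalkFunctor Ab x).map ((Scheme.Modules.toPresheaf X).map ψ)
        ((TopCat.Presheaf.stalkFunctor Ab x).map ((Scheme.Modules.toPresheaf X).map φ) m)
    rw [CategoryTheory.Functor.map_comp, CategoryTheory.Functor.map_comp]
    rfl

lemma stalkFunctor_map_apply (x : X) {M N : X.Modules} (φ : M ⟶ N) (m : M.presheaf.stalk x) :
    ((stalkFunctor x).map φ).hom m = (TopCat.Presheaf.stalkFunctor Ab x).map φ.mapPresheaf m := rfl

lemma stalkFunctor_map_germ (x : X) {M N : X.Modules} (φ : M ⟶ N) (U : X.Opens) (hx : x ∈ U)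
    (m : Γ(M, U)) :
    ((stalkFunctor x).map φ).hom (M.presheaf.germ U x hx m) =
      N.presheaf.germ U x hx (φ.app U m) := by
  rw [stalkFunctor_map_apply]
  exact TopCat.Presheaf.stalkFunctor_map_germ_apply U x hx φ.mapPresheaf m

end Groth.Agent.H5.Stalk
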