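import Groth.Agent.H5.Stalk.Adjunction
import Mathlib.Algebra.Category.Grp.EpiMono
import Mathlib.Algebra.Category.ModuleCat.EpiMono

/-!
# Monomorphisms of modules on a scheme are detected on stalks
-/

set_option autoImplicit false
universe u
open CategoryTheory CategoryTheory.Limits AlgebraicGeometry TopologicalSpace Opposite

namespace Groth.Agent.H5.Stalk

variable {X : Scheme.{u}}

lemma app_injective_of_mono {M N : X.Modules} (φ : M ⟶ N) [Mono φ] (U : X.Opens) :
    Function.Injective (φ.app U) := by
  have h₁ : Mono ((Scheme.Modules.toPresheaf X).map φ) := inferInstance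
  have h₂ : Mono (((Scheme.Modules.toPresheaf X).map φ).app (op U)) :=
    (NatTrans.mono_iff_mono_app _).1 h₁ (op U)
  exact (AddCommGrpCat.mono_iff_injective _).1 h₂

lemma mono_of_app_injective {M N : X.Modules} (φ : M ⟶ N)
    (h : ∀ U : X.Opens, Function.Injective (φ.app U)) : Mono φ := by
  have h₁ : Mono ((Scheme.Modules.toPresheaf X).map φ) := by
    rw [NatTrans.mono_iff_mono_app]
    intro U
    exact (AddCommGrpCat.mono_iff_injective _).2 (h U.unop)
  exact (Scheme.Modules.toPresheaf X).mono_of_mono_map h₁

lemma stalkFunctor_map_injective_of_mono (x : X) {M N : X.Modules} (φ : M ⟶ N) [Mono φ] :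
    Function.Injective ((stalkFunctor x).map φ).hom :=
  TopCat.Presheaf.stalkFunctor_map_injective_of_app_injective (f := φ.mapPresheaf)
    (fun U => app_injective_of_mono φ U) x

instance (x : X) : (stalkFunctor x).PreservesMonomorphisms where
  preserves φ _ := (ModuleCat.mono_iff_injective _).2 (stalkFunctor_map_injective_of_mono x φ)

/-- A morphism of modules is a monomorphism if it is injective on all stalks. -/
lemma mono_of_stalkFunctor_map_injective {M N : X.Modules} (φ : M ⟶ N)
    (h : ∀ x : X, Function.Injective ((stalkFunctor x).map φ).hom) : Mono φ := by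
  apply mono_of_app_injective
  intro U
  exact TopCat.Presheaf.app_injective_of_stalkFunctor_map_injective
    (F := ⟨M.presheaf, M.isSheaf⟩) φ.mapPresheaf U (fun x _ => h x)

lemma mono_of_mono_stalkFunctor_map {M N : X.Modules} (φ : M ⟶ N)
    (h : ∀ x : X, Mono ((stalkFunctor x).map φ)) : Mono φ :=
  mono_of_stalkFunctor_map_injective φ (fun x => (ModuleCat.mono_iff_injective _).1 (h x))

instance (x : X) : (stalkFunctor x).IsLeftAdjoint := (stalkSkyAdjunction x).isLeftAdjoint

attribute [local instance] preservesBinaryBiproducts_of_preservesBinaryCoproducts in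
instance (x : X) : (stalkFunctor x).Additive := Functor.additive_of_preservesBinaryBiproducts _

/-- the stalk functor is exact -/
lemma stalkFunctor_map_shortExact (x : X) (S : ShortComplex X.Modules) (hS : S.ShortExact) :
    (S.map (stalkFunctor x)).ShortExact := by
  have h := (Functor.preservesFiniteColimits_iff_forall_exact_map_and_epi (stalkFunctor x)).1
    inferInstance S hS
  have := hS.mono_f
  exact
    { exact := h.1
      mono_f := inferInstanceAs (Mono ((stalkFunctor x).map S.f))
      epi_g := h.2 }

instance (x : X) : PreservesFiniteLimits (stalkFunctor x) := by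
  rw [Functor.preservesFiniteLimits_iff_forall_exact_map_and_mono]
  intro S hS
  have h := stalkFunctor_map_shortExact x S hS
  exact ⟨h.exact, h.mono_f⟩

end Groth.Agent.H5.Stalk
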