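import Groth.Agent.H5.Stalk.PushSky
import Mathlib.Algebra.Category.ModuleCat.ChangeOfRings
import Mathlib.CategoryTheory.Adjunction.Unique

/-!
# The stalk of the pullback of a module
-/

set_option autoImplicit false
universe u
open CategoryTheory CategoryTheory.Limits AlgebraicGeometry TopologicalSpace Opposite

namespace Groth.Agent.H5.Stalk

variable {X Y : Scheme.{u}} (f : X ⟶ Y) (x : X)

/-- extension of scalars along the stalk map -/
noncomputable abbrev extStalk :
    ModuleCat.{u} (Y.presheaf.stalk (f x)) ⥤ ModuleCat.{u} (X.presheaf.stalk x) :=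
  ModuleCat.extendScalars (f.stalkMap x).hom

/-- `(f^* M)_x`, as a functor in `M` -/
noncomputable abbrev pullbackStalk : Y.Modules ⥤ ModuleCat.{u} (X.presheaf.stalk x) :=
  Scheme.Modules.pullback f ⋙ stalkFunctor x

/-- `M_{f x} ⊗ O_{X,x}`, as a functor in `M` -/
noncomputable abbrev stalkExt : Y.Modules ⥤ ModuleCat.{u} (X.presheaf.stalk x) :=
  stalkFunctor (f x) ⋙ extStalk f x

/-- the adjunction `(f^* -)_x ⊣ f_* sky_x` -/
noncomputable def pullbackStalkAdj :
    pullbackStalk f x ⊣ skyFunctor x ⋙ Scheme.Modules.pushforward f :=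
  (Scheme.Modules.pullbackPushforwardAdjunction f).comp (stalkSkyAdjunction x)

/-- the adjunction `(-)_{f x} ⊗ O_{X,x} ⊣ sky_{f x} ∘ res` -/
noncomputable def stalkExtAdj :
    stalkExt f x ⊣ resStalk f x ⋙ skyFunctor (f x) :=
  (stalkSkyAdjunction (f x)).comp (ModuleCat.extendRestrictScalarsAdj (f.stalkMap x).hom)

/-- The stalk of a pullback: `(f^* M)_x ≅ M_{f x} ⊗_{O_{Y, f x}} O_{X, x}`, naturally in `M`. -/
noncomputable def pullbackStalkIso : pullbackStalk f x ≅ stalkExt f x :=
  (pullbackStalkAdj f x).leftAdjointUniq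
    ((stalkExtAdj f x).ofNatIsoRight (pushSkyNatIso f x).symm)

end Groth.Agent.H5.Stalk
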