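import Groth.Agent.H5.Stalk.Skyscraper

/-!
# The adjunction between the stalk functor and the skyscraper functor on modules
-/

set_option autoImplicit false
universe u
open CategoryTheory CategoryTheory.Limits AlgebraicGeometry TopologicalSpace Opposite

namespace Groth.Agent.H5.Stalk

variable {X : Scheme.{u}} (x : X)

section

variable {M : X.Modules} {N : ModuleCat.{u} (X.presheaf.stalk x)}

/-- auxiliary additive map: germ followed by `θ` -/
noncomputable def germθ (θ : (stalkFunctor x).obj M ⟶ N) (U : X.Opens) (hx : x ∈ U) :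
    Γ(M, U) →+ N :=
  AddMonoidHom.comp (θ.hom.toAddMonoidHom : ↑(M.presheaf.stalk x) →+ N)
    (M.presheaf.germ U x hx).hom

lemma germθ_apply (θ : (stalkFunctor x).obj M ⟶ N) (U : X.Opens) (hx : x ∈ U) (m : Γ(M, U)) :
    germθ x θ U hx m = θ.hom (M.presheaf.germ U x hx m) := rfl

lemma germθ_smul (θ : (stalkFunctor x).obj M ⟶ N) (U : X.Opens) (hx : x ∈ U) (r : Γ(X, U))
    (m : Γ(M, U)) :
    germθ x θ U hx (r • m) = X.presheaf.germ U x hx r • germθ x θ U hx m :=
  (congrArg θ.hom (germ_smul M x U hx r m)).trans (map_smul θ.hom _ _)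

lemma germθ_res (θ : (stalkFunctor x).obj M ⟶ N) {U V : X.Opens} (f : V ⟶ U) (hx : x ∈ V)
    (m : Γ(M, U)) :
    germθ x θ V hx (M.presheaf.map f.op m) = germθ x θ U (f.le hx) m :=
  congrArg θ.hom (TopCat.Presheaf.germ_res_apply M.presheaf f x hx m)

/-- the map `M ⟶ sky x N` attached to `M_x ⟶ N` -/
noncomputable def toSky (θ : (stalkFunctor x).obj M ⟶ N) : M ⟶ sky x N :=
  ⟨PresheafOfModules.homMk (M₁ := M.val) (M₂ := skyPre x N)
    { app := fun U => AddCommGrpCat.ofHom
        { toFun := fun (m : Γ(M, U.unop)) =>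
            (fun h => germθ x θ U.unop h.down m : SkyCarrier x N U.unop)
          map_zero' := funext (fun h => map_zero (germθ x θ U.unop h.down))
          map_add' := fun a b => funext (fun h => map_add (germθ x θ U.unop h.down) a b) }
      naturality := fun U V f => by
        ext m
        exact funext (fun h => germθ_res x θ f.unop h.down m) }
    (fun U r m => funext (fun h => germθ_smul x θ U.unop h.down r m))⟩

lemma toSky_app_apply (θ : (stalkFunctor x).obj M ⟶ N) (U : X.Opens) (m : Γ(M, U))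
    (h : PLift (x ∈ U)) :
    ((toSky x θ).app U m : SkyCarrier x N U) h = θ.hom (M.presheaf.germ U x h.down m) := rfl

/-- auxiliary additive map: `ψ` followed by evaluation -/
noncomputable def evalψ (ψ : M ⟶ sky x N) (U : X.Opens) (hx : x ∈ U) : Γ(M, U) →+ N :=
  AddMonoidHom.comp
    (Pi.evalAddMonoidHom (fun _ : PLift (x ∈ U) => (N : Type u)) ⟨hx⟩ : SkyCarrier x N U →+ N)
    (ψ.app U).hom

lemma evalψ_apply (ψ : M ⟶ sky x N) (U : X.Opens) (hx : x ∈ U) (m : Γ(M, U)) :
    evalψ x ψ U hx m = (ψ.app U m : SkyCarrier x N U) ⟨hx⟩ := rfl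

lemma evalψ_res (ψ : M ⟶ sky x N) {U V : X.Opens} (f : V ⟶ U) (hx : x ∈ V) (m : Γ(M, U)) :
    evalψ x ψ V hx (M.presheaf.map f.op m) = evalψ x ψ U (f.le hx) m := by
  have h := ConcreteCategory.congr_hom (ψ.mapPresheaf.naturality f.op) m
  exact congr_fun (h : (ψ.app V (M.presheaf.map f.op m) : SkyCarrier x N V) = _) ⟨hx⟩

lemma evalψ_smul (ψ : M ⟶ sky x N) (U : X.Opens) (hx : x ∈ U) (r : Γ(X, U)) (m : Γ(M, U)) :
    evalψ x ψ U hx (r • m) = X.presheaf.germ U x hx r • evalψ x ψ U hx m := by
  have h := ψ.app_smul r m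
  exact congr_fun (h : (ψ.app U (r • m) : SkyCarrier x N U) = _) ⟨hx⟩

/-- the cocone defining the map `M_x ⟶ N` attached to `M ⟶ sky x N` -/
noncomputable def fromSkyCocone (ψ : M ⟶ sky x N) :
    Cocone ((OpenNhds.inclusion x).op ⋙ M.presheaf) where
  pt := AddCommGrpCat.of N
  ι :=
    { app := fun U => AddCommGrpCat.ofHom (evalψ x ψ U.unop.1 U.unop.2)
      naturality := fun U V f => by
        ext m
        exact evalψ_res x ψ ((OpenNhds.inclusion x).map f.unop) V.unop.2 m }

/-- the underlying additive map of `fromSky` -/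
noncomputable def fromSkyAb (ψ : M ⟶ sky x N) : M.presheaf.stalk x ⟶ AddCommGrpCat.of N :=
  colimit.desc _ (fromSkyCocone x ψ)

lemma fromSkyAb_germ (ψ : M ⟶ sky x N) (U : X.Opens) (hx : x ∈ U) (m : Γ(M, U)) :
    fromSkyAb x ψ (M.presheaf.germ U x hx m) = evalψ x ψ U hx m := by
  have : M.presheaf.germ U x hx ≫ fromSkyAb x ψ = (fromSkyCocone x ψ).ι.app (op ⟨U, hx⟩) :=
    colimit.ι_desc _ _
  exact ConcreteCategory.congr_hom this m

/-- the map `M_x ⟶ N` attached to `M ⟶ sky x N` -/
noncomputable def fromSky (ψ : M ⟶ sky x N) : (stalkFunctor x).obj M ⟶ N :=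
  ModuleCat.ofHom
    { toFun := fun m => fromSkyAb x ψ m
      map_add' := fun a b => map_add _ a b
      map_smul' := fun r m => by
        obtain ⟨U, hx, r', m', rfl, rfl⟩ := exists_germ_eq₂ M x r m
        dsimp
        rw [← germ_smul, fromSkyAb_germ, fromSkyAb_germ, evalψ_smul] }

lemma fromSky_germ (ψ : M ⟶ sky x N) (U : X.Opens) (hx : x ∈ U) (m : Γ(M, U)) :
    (fromSky x ψ).hom (M.presheaf.germ U x hx m) = evalψ x ψ U hx m :=
  fromSkyAb_germ x ψ U hx m

lemma fromSky_toSky (θ : (stalkFunctor x).obj M ⟶ N) : fromSky x (toSky x θ) = θ := by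
  ext m
  obtain ⟨U, hx, m', rfl⟩ := M.presheaf.exists_germ_eq (m : M.presheaf.stalk x)
  exact fromSky_germ x (toSky x θ) U hx m'

lemma toSky_fromSky (ψ : M ⟶ sky x N) : toSky x (fromSky x ψ) = ψ := by
  ext U m
  refine funext (fun h => ?_)
  exact fromSky_germ x ψ U h.down m

end

/-- The adjunction between the stalk functor and the skyscraper functor. -/
noncomputable def stalkSkyAdjunction : stalkFunctor x ⊣ skyFunctor x :=
  Adjunction.mkOfHomEquiv
    { homEquiv := fun M N =>
        { toFun := toSky x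
          invFun := fromSky x
          left_inv := fromSky_toSky x
          right_inv := toSky_fromSky x }
      homEquiv_naturality_left_symm := fun {M' M N} φ ψ => by
        ext m
        obtain ⟨U, hx, m', rfl⟩ := M'.presheaf.exists_germ_eq (m : M'.presheaf.stalk x)
        refine (fromSky_germ x (φ ≫ ψ) U hx m').trans ?_
        refine Eq.trans ?_ (congrArg (fromSky x ψ).hom (stalkFunctor_map_germ x φ U hx m')).symm
        exact (fromSky_germ x ψ U hx (φ.app U m')).symm
      homEquiv_naturality_right := fun {M N N'} θ g => by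
        ext U m
        rfl }

end Groth.Agent.H5.Stalk
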