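import Groth.Agent.H5.Stalk.PushSky
import Groth.Agent.H5.Stalk.Acyclic

/-!
# Stalks of pushforwards along (closed) embeddings
-/

set_option autoImplicit false
universe u
open CategoryTheory CategoryTheory.Limits AlgebraicGeometry TopologicalSpace Opposite

namespace Groth.Agent.H5.Stalk

variable {X Y : Scheme.{u}} (f : X ⟶ Y) (x : X)

/-- the canonical map `(f_* G)_{f x} ⟶ G_x`, linear over `O_{Y, f x}` -/
noncomputable def pushStalkMap (G : X.Modules) :
    (stalkFunctor (f x)).obj ((Scheme.Modules.pushforward f).obj G) ⟶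
      (resStalk f x).obj ((stalkFunctor x).obj G) :=
  fromSky (f x) ((Scheme.Modules.pushforward f).map (toSky x (𝟙 ((stalkFunctor x).obj G))) ≫
    pushSkyHom f x _)

lemma pushStalkMap_germ (G : X.Modules) (V : Y.Opens) (hx : f x ∈ V) (s : Γ(G, f ⁻¹ᵁ V)) :
    (pushStalkMap f x G).hom
      (((Scheme.Modules.pushforward f).obj G).presheaf.germ V (f x) hx s) =
      G.presheaf.germ (f ⁻¹ᵁ V) x hx s := by
  unfold pushStalkMap
  rw [fromSky_germ]
  rfl

lemma pushStalkMap_naturality {G G' : X.Modules} (φ : G ⟶ G') :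
    (stalkFunctor (f x)).map ((Scheme.Modules.pushforward f).map φ) ≫ pushStalkMap f x G' =
      pushStalkMap f x G ≫ (resStalk f x).map ((stalkFunctor x).map φ) := by
  ext m
  obtain ⟨V, hx, s, rfl⟩ := ((Scheme.Modules.pushforward f).obj G).presheaf.exists_germ_eq
    (m : ((Scheme.Modules.pushforward f).obj G).presheaf.stalk (f x))
  change (pushStalkMap f x G').hom (((stalkFunctor (f x)).map
      ((Scheme.Modules.pushforward f).map φ)).hom _) =
    ((stalkFunctor x).map φ).hom ((pushStalkMap f x G).hom _)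
  rw [stalkFunctor_map_germ, pushStalkMap_germ]
  erw [pushStalkMap_germ f x G V hx s]
  exact (stalkFunctor_map_germ x φ (f ⁻¹ᵁ V) hx s).symm

/-- the natural transformation `(f_* -)_{f x} ⟶ (-)_x` -/
noncomputable def pushStalkNatTrans :
    Scheme.Modules.pushforward f ⋙ stalkFunctor (f x) ⟶ stalkFunctor x ⋙ resStalk f x where
  app G := pushStalkMap f x G
  naturality _ _ φ := pushStalkMap_naturality f x φ

lemma exists_preimage_eq (hf : Topology.IsInducing f) (U : X.Opens) :
    ∃ V : Y.Opens, f ⁻¹ᵁ V = U := by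
  obtain ⟨t, ht, htU⟩ := hf.isOpen_iff.1 U.2
  exact ⟨⟨t, ht⟩, Opens.ext htU⟩

lemma pushStalkMap_bijective (hf : Topology.IsInducing f) (G : X.Modules) :
    Function.Bijective (pushStalkMap f x G).hom := by
  constructor
  · rw [injective_iff_map_eq_zero]
    intro m hm
    obtain ⟨V, hx, s, rfl⟩ := ((Scheme.Modules.pushforward f).obj G).presheaf.exists_germ_eq
      (m : ((Scheme.Modules.pushforward f).obj G).presheaf.stalk (f x))
    erw [pushStalkMap_germ f x G V hx s] at hm
    have hm' : G.presheaf.germ (f ⁻¹ᵁ V) x hx s = G.presheaf.germ (f ⁻¹ᵁ V) x hx 0 := by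
      rw [hm, map_zero]
      rfl
    obtain ⟨U, hxU, i₁, i₂, hs⟩ := TopCat.Presheaf.germ_eq G.presheaf x hx hx s 0 hm'
    rw [map_zero] at hs
    obtain ⟨V', rfl⟩ := exists_preimage_eq f hf U
    have hle : f ⁻¹ᵁ (V ⊓ V') ≤ f ⁻¹ᵁ V' := fun z hz => hz.2
    have e1 : ((Scheme.Modules.pushforward f).obj G).presheaf.germ V (f x) hx s =
        ((Scheme.Modules.pushforward f).obj G).presheaf.germ (V ⊓ V') (f x) ⟨hx, hxU⟩
          (((Scheme.Modules.pushforward f).obj G).presheaf.map (homOfLE inf_le_left).op s) :=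
      (TopCat.Presheaf.germ_res_apply _ (homOfLE inf_le_left) (f x) ⟨hx, hxU⟩ s).symm
    have e2 : ((Scheme.Modules.pushforward f).obj G).presheaf.map
        (homOfLE (inf_le_left : V ⊓ V' ≤ V)).op s = 0 := by
      change G.presheaf.map (homOfLE (show f ⁻¹ᵁ (V ⊓ V') ≤ f ⁻¹ᵁ V from fun z hz => hz.1)).op s = 0
      have : (homOfLE (show f ⁻¹ᵁ (V ⊓ V') ≤ f ⁻¹ᵁ V from fun z hz => hz.1)) =
          homOfLE hle ≫ i₁ := rfl
      rw [this, op_comp, G.presheaf.map_comp]
      change G.presheaf.map (homOfLE hle).op (G.presheaf.map i₁.op s) = 0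
      rw [hs, map_zero]
    rw [e1, e2, map_zero]
    rfl
  · intro m
    obtain ⟨U, hxU, t, rfl⟩ := G.presheaf.exists_germ_eq (m : G.presheaf.stalk x)
    obtain ⟨V', rfl⟩ := exists_preimage_eq f hf U
    exact ⟨((Scheme.Modules.pushforward f).obj G).presheaf.germ V' (f x) hxU t,
      pushStalkMap_germ f x G V' hxU t⟩

instance isIso_pushStalkMap [IsClosedImmersion f] (G : X.Modules) : IsIso (pushStalkMap f x G) := by
  rw [ConcreteCategory.isIso_iff_bijective]
  exact pushStalkMap_bijective f x f.isClosedEmbedding.isInducing G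

/-- for a closed immersion, `(f_* G)_{f x} ≅ G_x` naturally -/
noncomputable def pushStalkNatIso [IsClosedImmersion f] :
    Scheme.Modules.pushforward f ⋙ stalkFunctor (f x) ≅ stalkFunctor x ⋙ resStalk f x :=
  NatIso.ofComponents (fun G => asIso (pushStalkMap f x G))
    (fun φ => pushStalkMap_naturality f x φ)

lemma subsingleton_sections_bot (G : X.Modules) : Subsingleton Γ(G, (⊥ : X.Opens)) :=
  AddCommGrpCat.subsingleton_of_isZero
    (TopCat.Sheaf.isTerminalOfEmpty ⟨G.presheaf, G.isSheaf⟩).isZero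

/-- the stalks of `f_* G` vanish outside the closed image of `f` -/
lemma subsingleton_stalk_pushforward (hf : IsClosed (Set.range f)) (y : Y)
    (hy : y ∉ Set.range f) (G : X.Modules) :
    Subsingleton (((Scheme.Modules.pushforward f).obj G).presheaf.stalk y) := by
  refine ⟨fun a b => ?_⟩
  suffices h : ∀ m : ((Scheme.Modules.pushforward f).obj G).presheaf.stalk y, m = 0 by
    rw [h a, h b]
  intro m
  obtain ⟨V, hyV, s, rfl⟩ := ((Scheme.Modules.pushforward f).obj G).presheaf.exists_germ_eq m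
  let W : Y.Opens := ⟨(Set.range f)ᶜ, hf.isOpen_compl⟩
  have hbot : f ⁻¹ᵁ (V ⊓ W) = ⊥ := by
    ext z
    simp only [Opens.coe_bot, Set.mem_empty_iff_false, iff_false]
    rintro ⟨-, hz⟩
    exact hz ⟨z, rfl⟩
  have e1 : ((Scheme.Modules.pushforward f).obj G).presheaf.germ V y hyV s =
      ((Scheme.Modules.pushforward f).obj G).presheaf.germ (V ⊓ W) y ⟨hyV, hy⟩
        (((Scheme.Modules.pushforward f).obj G).presheaf.map (homOfLE inf_le_left).op s) :=
    (TopCat.Presheaf.germ_res_apply _ (homOfLE inf_le_left) y ⟨hyV, hy⟩ s).symm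
  have hsub : Subsingleton Γ(G, f ⁻¹ᵁ (V ⊓ W)) := by
    rw [hbot]
    exact subsingleton_sections_bot G
  have e2 : ((Scheme.Modules.pushforward f).obj G).presheaf.map
      (homOfLE (inf_le_left : V ⊓ W ≤ V)).op s = 0 := hsub.elim _ _
  rw [e1, e2, map_zero]

lemma isZero_stalk_pushforward (hf : IsClosed (Set.range f)) (y : Y)
    (hy : y ∉ Set.range f) (G : X.Modules) :
    IsZero ((stalkFunctor y).obj ((Scheme.Modules.pushforward f).obj G)) := by
  have : Subsingleton ↑((stalkFunctor y).obj ((Scheme.Modules.pushforward f).obj G)) :=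
    subsingleton_stalk_pushforward f hf y hy G
  exact ModuleCat.isZero_of_subsingleton _

end Groth.Agent.H5.Stalk
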