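import Groth.Agent.H5.Stalk.PullbackStalk
import Groth.Agent.H5.Stalk.Tensor

/-!
# A formula for the stalk of a pullback
-/

set_option autoImplicit false
universe u
open CategoryTheory CategoryTheory.Limits AlgebraicGeometry TopologicalSpace Opposite
  Groth.Agent.H5.Stalk.Tensor

namespace Groth.Agent.H5.Stalk

variable {X Y : Scheme.{u}} (f : X ⟶ Y) (x : X)

/-- the map on sections induced by the unit of the pullback-pushforward adjunction -/
noncomputable def unitSec (A : Y.Modules) (V : Y.Opens) :
    Γ(A, V) →+ Γ((Scheme.Modules.pullback f).obj A, f ⁻¹ᵁ V) :=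
  (((Scheme.Modules.pullbackPushforwardAdjunction f).unit.app A).app V).hom

lemma unitSec_apply (A : Y.Modules) (V : Y.Opens) (a : Γ(A, V)) :
    unitSec f A V a = ((Scheme.Modules.pullbackPushforwardAdjunction f).unit.app A).app V a := rfl

open ChangeOfRings in
theorem pullbackStalkIso_hom_germ (A : Y.Modules) (V : Y.Opens) (hy : f x ∈ V) (a : Γ(A, V)) :
    ((pullbackStalkIso f x).hom.app A).hom
      (gm x ((Scheme.Modules.pullback f).obj A) (f ⁻¹ᵁ V) hy (unitSec f A V a)) =
    ((1 : X.presheaf.stalk x) ⊗ₜ[Y.presheaf.stalk (f x), (f.stalkMap x).hom]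
      (gm (f x) A V hy a : (stalkFunctor (f x)).obj A) : (stalkExt f x).obj A) := by
  have key := Adjunction.homEquiv_leftAdjointUniq_hom_app (pullbackStalkAdj f x)
    ((stalkExtAdj f x).ofNatIsoRight (pushSkyNatIso f x).symm) A
  rw [← Adjunction.homEquiv_id, Adjunction.homEquiv_ofNatIsoRight_apply] at key
  have key2 := congrArg (fun φ => ((Scheme.Modules.Hom.app φ V a :
    SkyCarrier x _ (f ⁻¹ᵁ V)) ⟨hy⟩)) key
  dsimp only at key2
  have e1 : ∀ (N : ModuleCat.{u} (X.presheaf.stalk x))
      (g : (pullbackStalk f x).obj A ⟶ N),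
      (pullbackStalkAdj f x).homEquiv A N g =
        (Scheme.Modules.pullbackPushforwardAdjunction f).unit.app A ≫
          (Scheme.Modules.pushforward f).map (toSky x g) := by
    intro N g
    unfold pullbackStalkAdj
    rw [Adjunction.comp_homEquiv]
    dsimp only [Equiv.trans_apply]
    rw [Adjunction.homEquiv_unit]
    rfl
  have e2 : (stalkExtAdj f x).homEquiv A ((stalkExt f x).obj A) (𝟙 ((stalkExt f x).obj A)) =
      toSky (f x) ((ModuleCat.extendRestrictScalarsAdj (f.stalkMap x).hom).unit.app
        ((stalkFunctor (f x)).obj A)) := by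
    unfold stalkExtAdj
    rw [Adjunction.comp_homEquiv]
    dsimp only [Equiv.trans_apply]
    have h3 : (ModuleCat.extendRestrictScalarsAdj (f.stalkMap x).hom).homEquiv
        ((stalkFunctor (f x)).obj A) ((stalkExt f x).obj A) (𝟙 ((stalkExt f x).obj A)) =
        (ModuleCat.extendRestrictScalarsAdj (f.stalkMap x).hom).unit.app
          ((stalkFunctor (f x)).obj A) := Adjunction.homEquiv_id _ _
    exact congrArg (toSky (f x)) h3
  rw [e1, e2] at key2
  exact key2

end Groth.Agent.H5.Stalk
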