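import Groth.Agent.H5.Stalk.PushClosed
import Groth.Agent.H5.PullbackTensor

/-!
# The pushforward along a closed immersion preserves colimits (hence is exact)
-/

set_option autoImplicit false
universe u v w
open CategoryTheory CategoryTheory.Limits AlgebraicGeometry TopologicalSpace Opposite

namespace Groth.Agent.H5.Stalk

open Groth.Agent.H5.PullbackTensor

/-- a functor with values in zero objects preserves colimits -/
lemma preservesColimit_of_isZero_obj {C D J : Type*} [Category C] [Category D] [Category J]
    [HasZeroMorphisms D] (H : C ⥤ D) (hH : ∀ c, IsZero (H.obj c)) (K : J ⥤ C) :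
    PreservesColimit K H where
  preserves {c} _ := ⟨{
    desc := fun s => (hH c.pt).to_ s.pt
    fac := fun s j => (hH (K.obj j)).eq_of_src _ _
    uniq := fun s m _ => (hH c.pt).eq_of_src _ _ }⟩

variable {X Y : Scheme.{u}}

/-- a functor to modules preserves a colimit as soon as its composites with all the stalk functors
do -/
lemma preservesColimit_of_stalkwise {C : Type*} [Category C] {J : Type*} [Category J]
    (K : J ⥤ C) [HasColimit K] (F : C ⥤ Y.Modules) [HasColimit (K ⋙ F)]
    (h : ∀ y : Y, PreservesColimit K (F ⋙ stalkFunctor y))
    [∀ y : Y, PreservesColimit (K ⋙ F) (stalkFunctor y)]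
    [∀ y : Y, HasColimit (K ⋙ F ⋙ stalkFunctor y)]
    [∀ y : Y, HasColimit ((K ⋙ F) ⋙ stalkFunctor y)] :
    PreservesColimit K F := by
  have : IsIso (colimit.post K F) := by
    refine isIso_of_isIso_stalkFunctor_map _ (fun y => ?_)
    have h1 : IsIso (colimit.post (K ⋙ F) (stalkFunctor y)) := inferInstance
    have h2 : IsIso (colimit.post K (F ⋙ stalkFunctor y)) := by
      have := h y
      infer_instance
    have h3 := colimit.post_post K F (stalkFunctor y)
    exact IsIso.of_isIso_fac_left h3
  exact preservesColimit_of_isIso_post F K

variable (f : X ⟶ Y) [IsClosedImmersion f]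

lemma preservesColimit_pushforward_stalk {J : Type*} [Category J] (K : J ⥤ X.Modules) (y : Y) :
    PreservesColimit K (Scheme.Modules.pushforward f ⋙ stalkFunctor y) := by
  by_cases hy : y ∈ Set.range f
  · obtain ⟨x, rfl⟩ := hy
    have : PreservesColimit K (stalkFunctor x ⋙ resStalk f x) := inferInstance
    exact preservesColimit_of_natIso K (pushStalkNatIso f x).symm
  · exact preservesColimit_of_isZero_obj _
      (fun G => isZero_stalk_pushforward f f.isClosedEmbedding.isClosed_range y hy G) K

instance preservesColimitsOfSize_pushforward :
    PreservesColimitsOfSize.{u, u} (Scheme.Modules.pushforward f) where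
  preservesColimitsOfShape {J} _ :=
    { preservesColimit := fun {K} =>
        preservesColimit_of_stalkwise K (Scheme.Modules.pushforward f)
          (fun y => preservesColimit_pushforward_stalk f K y) }

instance preservesFiniteColimits_pushforward :
    PreservesFiniteColimits (Scheme.Modules.pushforward f) :=
  PreservesColimitsOfSize.preservesFiniteColimits _

instance preservesColimitsOfSize_zero_pushforward :
    PreservesColimitsOfSize.{0, 0} (Scheme.Modules.pushforward f) :=
  preservesColimitsOfSize_shrink.{0, u, 0, u} _

end Groth.Agent.H5.Stalk
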