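import Groth.Agent.H5.Stalk.PullbackStalk
import Groth.Agent.H5.Stalk.Exact
import Groth.Agent.H5.FlatRing

/-!
# Pullback of modules and flatness
-/

set_option autoImplicit false
universe u
open CategoryTheory CategoryTheory.Limits AlgebraicGeometry TopologicalSpace Opposite

namespace Groth.Agent.H5.Stalk

variable {X Y : Scheme.{u}} (f : X ⟶ Y)

/-- The pullback of a flat module is flat. -/
theorem flatMod_pullback (M : Y.Modules) (hM : FlatMod.IsFlat M) :
    FlatMod.IsFlat ((Scheme.Modules.pullback f).obj M) := by
  intro x
  have h₁ : Module.Flat (Y.presheaf.stalk (f x)) ((stalkFunctor (f x)).obj M) := hM (f x)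
  have h₂ : Module.Flat (X.presheaf.stalk x) ((stalkExt f x).obj M) :=
    FlatRing.flat_extendScalars_obj _ _ h₁
  exact Module.Flat.of_linearEquiv ((pullbackStalkIso f x).app M).toLinearEquiv

/-- The pullback preserves the injectivity of maps with flat cokernel. -/
theorem mono_pullback_map_of_flat (S : ShortComplex Y.Modules) (hS : S.ShortExact)
    (hflat : FlatMod.IsFlat S.X₃) : Mono ((Scheme.Modules.pullback f).map S.f) := by
  apply mono_of_mono_stalkFunctor_map
  intro x
  have h₁ : Mono ((stalkExt f x).map S.f) :=
    FlatRing.mono_extendScalars_map (f.stalkMap x).hom (S.map (stalkFunctor (f x)))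
      (stalkFunctor_map_shortExact (f x) S hS) (hflat (f x))
  have h₂ : (pullbackStalk f x).map S.f ≫ (pullbackStalkIso f x).hom.app S.X₂ =
      (pullbackStalkIso f x).hom.app S.X₁ ≫ (stalkExt f x).map S.f :=
    (pullbackStalkIso f x).hom.naturality S.f
  have h₃ : Mono ((pullbackStalk f x).map S.f ≫ (pullbackStalkIso f x).hom.app S.X₂) := by
    rw [h₂]
    infer_instance
  exact mono_of_mono ((pullbackStalk f x).map S.f) ((pullbackStalkIso f x).hom.app S.X₂)

/-- The pullback preserves short exact sequences with flat cokernel. -/
theorem pullback_map_shortExact_of_flat (S : ShortComplex Y.Modules) (hS : S.ShortExact)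
    (hflat : FlatMod.IsFlat S.X₃) : (S.map (Scheme.Modules.pullback f)).ShortExact := by
  have h := (Functor.preservesFiniteColimits_iff_forall_exact_map_and_epi
    (Scheme.Modules.pullback f)).1 inferInstance S hS
  exact
    { exact := h.1
      mono_f := mono_pullback_map_of_flat f S hS hflat
      epi_g := h.2 }

end Groth.Agent.H5.Stalk
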