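import Groth.Agent.H5.Stalk.TensorCx
import Groth.Agent.H5.Stalk.Acyclic
import Groth.Prelude.Def_KFlatSite
import Groth.Prelude.Def_DerSch

/-!
# K-flatness of complexes of modules on a scheme is a stalkwise condition
-/

set_option autoImplicit false
universe u
open CategoryTheory CategoryTheory.Limits AlgebraicGeometry TopologicalSpace Opposite
  MonoidalCategory Groth.Agent.H5.Stalk.Tensor Groth.Agent.H5.Stalk.TensorCx

namespace Groth.Agent.H5.Stalk.KFlat

variable {X : Scheme.{u}}

/-- the prelude's stalk functor is the stalk functor of this library -/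
theorem derSch_stalkFunctor_eq (x : X) : DerSch.stalkFunctor X x = stalkFunctor x := by
  refine CategoryTheory.Functor.ext (fun M => rfl) (fun M N φ => ?_)
  change _ = 𝟙 _ ≫ (stalkFunctor x).map φ ≫ 𝟙 _
  rw [Category.id_comp, Category.comp_id]
  rfl

/-- a complex whose stalks are K-flat is K-flat -/
theorem isKFlat_of_stalks (K : CochainComplex X.Modules ℤ)
    (h : ∀ x : X, DRing.IsKFlat (X.presheaf.stalk x) (stalkCx x K)) : DCoh.IsKFlat K := by
  intro L hL i
  rw [← HomologicalComplex.exactAt_iff_isZero_homology, exactAt_iff_stalk]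
  intro x
  rw [HomologicalComplex.exactAt_iff_isZero_homology]
  refine IsZero.of_iso (h x (stalkCx x L) ?_ i)
    ((HomologicalComplex.homologyFunctor _ _ i).mapIso (stalkTotIso x L K))
  intro j
  rw [← HomologicalComplex.exactAt_iff_isZero_homology]
  exact (exactAt_iff_stalk L j).1
    ((HomologicalComplex.exactAt_iff_isZero_homology _ _).2 (hL j)) x

/-- the complex of stalks of the complex of skyscrapers -/
noncomputable def stalkSkyCxIso (x : X) (M : CochainComplex (ModuleCat.{u} (X.presheaf.stalk x)) ℤ) :
    stalkCx x (((skyFunctor x).mapHomologicalComplex (ComplexShape.up ℤ)).obj M) ≅ M :=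
  HomologicalComplex.Hom.isoOfComponents
    (fun n => (asIso (stalkSkyAdjunction x).counit).app (M.X n))
    (fun i j _ => ((stalkSkyAdjunction x).counit.naturality (M.d i j)).symm)

/-- the stalks of a K-flat complex are K-flat -/
theorem isKFlat_stalk (K : CochainComplex X.Modules ℤ) (hK : DCoh.IsKFlat K) (x : X) :
    DRing.IsKFlat (X.presheaf.stalk x) (stalkCx x K) := by
  intro M hM i
  let L : CochainComplex X.Modules ℤ :=
    ((skyFunctor x).mapHomologicalComplex (ComplexShape.up ℤ)).obj M
  have hL : ∀ j : ℤ, IsZero (L.homology j) := fun j => by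
    rw [← HomologicalComplex.exactAt_iff_isZero_homology]
    exact exactAt_sky x M j ((HomologicalComplex.exactAt_iff_isZero_homology _ _).2 (hM j))
  have h1 := hK L hL i
  have h2 : IsZero ((stalkCx x ((DCoh.tensorCx.obj L).obj K)).homology i) := by
    rw [← HomologicalComplex.exactAt_iff_isZero_homology]
    exact (exactAt_iff_stalk _ i).1
      ((HomologicalComplex.exactAt_iff_isZero_homology _ _).2 h1) x
  let e : stalkCx x ((DCoh.tensorCx.obj L).obj K) ≅ M ⊗ stalkCx x K :=
    stalkTotIso x L K ≪≫ whiskerRightIso (stalkSkyCxIso x M) (stalkCx x K)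
  exact IsZero.of_iso h2 ((HomologicalComplex.homologyFunctor _ _ i).mapIso e.symm)

/-- K-flatness is a stalkwise condition -/
theorem isKFlat_iff_stalks (K : CochainComplex X.Modules ℤ) :
    DCoh.IsKFlat K ↔ ∀ x : X, DRing.IsKFlat (X.presheaf.stalk x) (stalkCx x K) :=
  ⟨fun hK x => isKFlat_stalk K hK x, isKFlat_of_stalks K⟩

end Groth.Agent.H5.Stalk.KFlat
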