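import Groth.Agent.H5.Stalk.PullbackStalk
import Mathlib.AlgebraicGeometry.Modules.Tilde

/-!
# The stalk of `M^~` is the extension of scalars of `M` to the local ring
-/

set_option autoImplicit false
universe u
open CategoryTheory CategoryTheory.Limits AlgebraicGeometry TopologicalSpace Opposite

namespace Groth.Agent.H5.Stalk

variable (R : CommRingCat.{u}) (x : Spec (CommRingCat.of R))

/-- the canonical ring map from `R` to the local ring of `Spec R` at `x` -/
noncomputable def toStalkHom : R →+* (Spec (CommRingCat.of R)).presheaf.stalk x :=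
  ((Scheme.ΓSpecIso R).inv ≫ (Spec (CommRingCat.of R)).presheaf.germ ⊤ x trivial).hom

variable (N : ModuleCat.{u} ((Spec (CommRingCat.of R)).presheaf.stalk x))

/-- global sections of the skyscraper -/
noncomputable abbrev skyΓ : ModuleCat.{u} R := (skyFunctor x ⋙ moduleSpecΓFunctor (R := R)).obj N

/-- evaluation of a global section of the skyscraper -/
def skyΓEval (φ : skyΓ R x N) : N := (show SkyCarrier x N ⊤ from φ) ⟨trivial⟩

lemma skyΓEval_smul (r : R) (φ : skyΓ R x N) :
    skyΓEval R x N (r • φ) = toStalkHom R x r • skyΓEval R x N φ := by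
  have h1 : r • φ = ((Spec (CommRingCat.of R)).presheaf.map
      (⊤ : (Spec (CommRingCat.of R)).Opens).leTop.op ((Scheme.ΓSpecIso R).inv r)) •
        (show Γ(sky x N, ⊤) from φ) := rfl
  rw [h1]
  change (Spec (CommRingCat.of R)).presheaf.germ ⊤ x trivial
    ((Spec (CommRingCat.of R)).presheaf.map
      (⊤ : (Spec (CommRingCat.of R)).Opens).leTop.op ((Scheme.ΓSpecIso R).inv r)) •
      skyΓEval R x N φ = _
  congr 1

/-- global sections of the skyscraper module, as an `R`-module -/
noncomputable def skyΓObjIso : skyΓ R x N ≅ (ModuleCat.restrictScalars (toStalkHom R x)).obj N where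
  hom := ModuleCat.ofHom (X := skyΓ R x N) (Y := (ModuleCat.restrictScalars (toStalkHom R x)).obj N)
    { toFun := skyΓEval R x N
      map_add' := fun _ _ => rfl
      map_smul' := fun r φ => skyΓEval_smul R x N r φ }
  inv := ModuleCat.ofHom (X := (ModuleCat.restrictScalars (toStalkHom R x)).obj N) (Y := skyΓ R x N)
    { toFun := fun n => (show skyΓ R x N from (fun _ => n : SkyCarrier x N ⊤))
      map_add' := fun _ _ => rfl
      map_smul' := fun r n => by
        have h : ∀ φ ψ : skyΓ R x N, skyΓEval R x N φ = skyΓEval R x N ψ → φ = ψ := by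
          intro φ ψ hφ
          exact funext (fun _ => hφ)
        apply h
        exact (skyΓEval_smul R x N r
          (show skyΓ R x N from (fun _ => n : SkyCarrier x N ⊤))).symm }
  hom_inv_id := by
    ext φ
    rfl
  inv_hom_id := by
    ext n
    rfl

/-- global sections of a skyscraper module -/
noncomputable def skyΓIso :
    skyFunctor x ⋙ moduleSpecΓFunctor (R := R) ≅ ModuleCat.restrictScalars (toStalkHom R x) :=
  NatIso.ofComponents (fun N => skyΓObjIso R x N) (fun {N N'} g => by
    ext φ
    rfl)

/-- The stalk of `M^~` at `x` is `M ⊗_R O_x`, naturally in `M`. -/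
noncomputable def tildeStalkIso :
    tilde.functor R ⋙ stalkFunctor x ≅ ModuleCat.extendScalars (toStalkHom R x) :=
  ((tilde.adjunction (R := R)).comp (stalkSkyAdjunction x)).leftAdjointUniq
    ((ModuleCat.extendRestrictScalarsAdj (toStalkHom R x)).ofNatIsoRight (skyΓIso R x).symm)

end Groth.Agent.H5.Stalk
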