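import Groth.Agent.H5.Stalk.Adjunction
import Mathlib.AlgebraicGeometry.Stalk

/-!
# The pushforward of a skyscraper module is a skyscraper module
-/

set_option autoImplicit false
universe u
open CategoryTheory CategoryTheory.Limits AlgebraicGeometry TopologicalSpace Opposite

namespace Groth.Agent.H5.Stalk

variable {X Y : Scheme.{u}} (f : X ⟶ Y) (x : X)

/-- restriction of scalars along the stalk map -/
noncomputable abbrev resStalk :
    ModuleCat.{u} (X.presheaf.stalk x) ⥤ ModuleCat.{u} (Y.presheaf.stalk (f x)) :=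
  ModuleCat.restrictScalars (f.stalkMap x).hom

variable (N : ModuleCat.{u} (X.presheaf.stalk x))

/-- the map `f_* sky_x N ⟶ sky_{f x} N` -/
noncomputable def pushSkyHom :
    (Scheme.Modules.pushforward f).obj (sky x N) ⟶ sky (f x) ((resStalk f x).obj N) :=
  ⟨PresheafOfModules.homMk (M₁ := ((Scheme.Modules.pushforward f).obj (sky x N)).val)
      (M₂ := skyPre (f x) ((resStalk f x).obj N))
    { app := fun V => AddCommGrpCat.ofHom
        { toFun := fun (φ : SkyCarrier x N (f ⁻¹ᵁ V.unop)) =>
            (fun h => φ ⟨h.down⟩ : SkyCarrier (f x) ((resStalk f x).obj N) V.unop)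
          map_zero' := rfl
          map_add' := fun _ _ => rfl }
      naturality := fun _ _ _ => rfl }
    (fun V r φ => funext (fun h => by
      change X.presheaf.germ (f ⁻¹ᵁ V.unop) x h.down (f.app V.unop r) • (φ ⟨h.down⟩ : N) =
        f.stalkMap x (Y.presheaf.germ V.unop (f x) h.down r) • (φ ⟨h.down⟩ : N)
      rw [Scheme.Hom.germ_stalkMap_apply]))⟩

/-- the map `sky_{f x} N ⟶ f_* sky_x N` -/
noncomputable def pushSkyInv :
    sky (f x) ((resStalk f x).obj N) ⟶ (Scheme.Modules.pushforward f).obj (sky x N) :=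
  ⟨PresheafOfModules.homMk (M₁ := skyPre (f x) ((resStalk f x).obj N))
      (M₂ := ((Scheme.Modules.pushforward f).obj (sky x N)).val)
    { app := fun V => AddCommGrpCat.ofHom
        { toFun := fun (φ : SkyCarrier (f x) ((resStalk f x).obj N) V.unop) =>
            (fun h => φ ⟨h.down⟩ : SkyCarrier x N (f ⁻¹ᵁ V.unop))
          map_zero' := rfl
          map_add' := fun _ _ => rfl }
      naturality := fun _ _ _ => rfl }
    (fun V r φ => funext (fun h => by
      change f.stalkMap x (Y.presheaf.germ V.unop (f x) h.down r) • (φ ⟨h.down⟩ : N) =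
        X.presheaf.germ (f ⁻¹ᵁ V.unop) x h.down (f.app V.unop r) • (φ ⟨h.down⟩ : N)
      rw [Scheme.Hom.germ_stalkMap_apply]))⟩

/-- `f_* sky_x N ≅ sky_{f x} N` -/
noncomputable def pushSkyIso :
    (Scheme.Modules.pushforward f).obj (sky x N) ≅ sky (f x) ((resStalk f x).obj N) where
  hom := pushSkyHom f x N
  inv := pushSkyInv f x N
  hom_inv_id := by
    ext U m
    rfl
  inv_hom_id := by
    ext U m
    rfl

/-- `f_* ∘ sky_x ≅ sky_{f x} ∘ res` -/
noncomputable def pushSkyNatIso :
    skyFunctor x ⋙ Scheme.Modules.pushforward f ≅ resStalk f x ⋙ skyFunctor (f x) :=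
  NatIso.ofComponents (fun N => pushSkyIso f x N) (fun g => by
    ext U m
    rfl)

end Groth.Agent.H5.Stalk
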