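import Groth.Agent.H5.Stalk.Basic
import Mathlib.Topology.Sheaves.SheafCondition.UniqueGluing

/-!
# Skyscraper modules on a scheme
-/

set_option autoImplicit false
universe u
open CategoryTheory AlgebraicGeometry TopologicalSpace Opposite

namespace Groth.Agent.H5.Stalk

variable {X : Scheme.{u}} (x : X) (N : ModuleCat.{u} (X.presheaf.stalk x))

/-- sections of the skyscraper module over `U` -/
def SkyCarrier (U : X.Opens) : Type u := PLift (x ∈ U) → N

instance (U : X.Opens) : AddCommGroup (SkyCarrier x N U) :=
  inferInstanceAs (AddCommGroup (PLift (x ∈ U) → N))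

@[ext]
lemma SkyCarrier.ext {U : X.Opens} {a b : SkyCarrier x N U} (h : ∀ i, a i = b i) : a = b :=
  funext h

noncomputable instance (U : X.Opens) : Module Γ(X, U) (SkyCarrier x N U) where
  smul r φ := fun h => X.presheaf.germ U x h.down r • φ h
  one_smul φ := by
    ext h
    change X.presheaf.germ U x h.down 1 • φ h = φ h
    rw [map_one, one_smul]
  mul_smul r s φ := by
    ext h
    change X.presheaf.germ U x h.down (r * s) • φ h =
      X.presheaf.germ U x h.down r • (X.presheaf.germ U x h.down s • φ h)
    rw [map_mul, mul_smul]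
  smul_zero r := by
    ext h
    change X.presheaf.germ U x h.down r • (0 : N) = 0
    rw [smul_zero]
  smul_add r φ ψ := by
    ext h
    change X.presheaf.germ U x h.down r • (φ h + ψ h) = _
    rw [smul_add]
    rfl
  add_smul r s φ := by
    ext h
    change X.presheaf.germ U x h.down (r + s) • φ h = _
    rw [map_add, add_smul]
    rfl
  zero_smul φ := by
    ext h
    change X.presheaf.germ U x h.down 0 • φ h = 0
    rw [map_zero, zero_smul]

lemma sky_smul_apply (U : X.Opens) (r : Γ(X, U)) (φ : SkyCarrier x N U) (h : PLift (x ∈ U)) :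
    (r • φ) h = X.presheaf.germ U x h.down r • φ h := rfl

/-- the underlying presheaf of abelian groups of the skyscraper module -/
noncomputable def skyAb : (Opens X)ᵒᵖ ⥤ Ab.{u} where
  obj U := AddCommGrpCat.of (SkyCarrier x N U.unop)
  map {U V} f := AddCommGrpCat.ofHom
    { toFun := fun φ h => φ ⟨f.unop.le h.down⟩
      map_zero' := rfl
      map_add' := fun _ _ => rfl }
  map_id _ := rfl
  map_comp _ _ := rfl

noncomputable instance (U : (Opens X)ᵒᵖ) :
    Module (X.ringCatSheaf.obj.obj U) ((skyAb x N).obj U) :=
  inferInstanceAs (Module Γ(X, U.unop) (SkyCarrier x N U.unop))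

/-- the skyscraper presheaf of modules -/
noncomputable def skyPre : PresheafOfModules.{u} X.ringCatSheaf.obj :=
  PresheafOfModules.ofPresheaf (skyAb x N) (fun U V f r φ => by
    refine funext (fun h => ?_)
    change X.presheaf.germ U.unop x (f.unop.le h.down) r • φ ⟨f.unop.le h.down⟩ =
      X.presheaf.germ V.unop x h.down (X.presheaf.map f r) • φ ⟨f.unop.le h.down⟩
    congr 1
    exact (TopCat.Presheaf.germ_res_apply X.presheaf f.unop x h.down r).symm)

lemma isSheaf_skyAb : TopCat.Presheaf.IsSheaf (skyAb x N) := by
  rw [TopCat.Presheaf.isSheaf_iff_isSheafUniqueGluing]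
  intro ι U sf hsf
  have hmem : ∀ h : PLift (x ∈ iSup U), ∃ i, x ∈ U i := fun h => Opens.mem_iSup.1 h.down
  refine ⟨fun h => sf (hmem h).choose ⟨(hmem h).choose_spec⟩, ?_, ?_⟩
  · intro i
    refine funext (fun h => ?_)
    have := congr_fun (hsf (hmem ⟨(le_iSup U i : U i ≤ iSup U) h.down⟩).choose i)
      ⟨⟨(hmem ⟨(le_iSup U i : U i ≤ iSup U) h.down⟩).choose_spec, h.down⟩⟩
    exact this
  · intro s hs
    refine funext (fun h => ?_)
    have := congr_fun (hs (hmem h).choose) ⟨(hmem h).choose_spec⟩
    exact this

/-- the skyscraper module at `x` with value `N` -/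
noncomputable def sky : X.Modules where
  val := skyPre x N
  isSheaf := isSheaf_skyAb x N

lemma sky_presheaf : (sky x N).presheaf = skyAb x N := rfl

variable {N} in
/-- functoriality of the skyscraper module -/
noncomputable def skyMap {N' : ModuleCat.{u} (X.presheaf.stalk x)} (g : N ⟶ N') :
    sky x N ⟶ sky x N' :=
  ⟨PresheafOfModules.homMk (M₁ := skyPre x N) (M₂ := skyPre x N')
    { app := fun U => AddCommGrpCat.ofHom
        { toFun := fun (φ : SkyCarrier x N U.unop) => (fun h => g.hom (φ h) : SkyCarrier x N' U.unop)
          map_zero' := funext (fun _ => map_zero g.hom)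
          map_add' := fun a b => funext (fun h => map_add g.hom (a h) (b h)) }
      naturality := fun _ _ _ => rfl }
    (fun U r φ => funext (fun h => map_smul g.hom _ _))⟩

/-- the skyscraper functor -/
noncomputable def skyFunctor : ModuleCat.{u} (X.presheaf.stalk x) ⥤ X.Modules where
  obj N := sky x N
  map g := skyMap x g
  map_id _ := rfl
  map_comp _ _ := rfl

end Groth.Agent.H5.Stalk
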