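import Groth.Agent.H5.Stalk.Tensor
import Groth.Agent.H35.TotalMap
import Groth.Prelude.Def_DCoh4

/-!
# The stalk of a tensor product of complexes of modules on a scheme
-/

set_option autoImplicit false
universe u
open CategoryTheory CategoryTheory.Limits AlgebraicGeometry TopologicalSpace Opposite
  MonoidalCategory Groth.Agent.H35.TotalMap Groth.Agent.H5.Stalk.Tensor

namespace Groth.Agent.H5.Stalk.TensorCx

variable {X : Scheme.{u}} (x : X) (L K : CochainComplex X.Modules ℤ)

/-- the complex of stalks -/
noncomputable abbrev stalkCx (L : CochainComplex X.Modules ℤ) :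
    CochainComplex (ModuleCat.{u} (X.presheaf.stalk x)) ℤ :=
  ((stalkFunctor x).mapHomologicalComplex (ComplexShape.up ℤ)).obj L

/-- the bicomplex `L^p ⊗ K^q` -/
noncomputable abbrev bicX :
    HomologicalComplex₂ X.Modules (ComplexShape.up ℤ) (ComplexShape.up ℤ) :=
  ((DCoh.tensorBi.mapBifunctorHomologicalComplex (ComplexShape.up ℤ) (ComplexShape.up ℤ)).obj
    L).obj K

/-- the bicomplex `L_x^p ⊗ K_x^q` -/
noncomputable abbrev bicS :
    HomologicalComplex₂ (ModuleCat.{u} (X.presheaf.stalk x)) (ComplexShape.up ℤ)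
      (ComplexShape.up ℤ) :=
  (((curriedTensor (ModuleCat.{u} (X.presheaf.stalk x))).mapBifunctorHomologicalComplex
    (ComplexShape.up ℤ) (ComplexShape.up ℤ)).obj (stalkCx x L)).obj (stalkCx x K)

/-- the comparison of bicomplexes -/
noncomputable def βc : mapBicomplex (bicX L K) (stalkFunctor x) ⟶ bicS x L K :=
  HomologicalComplex₂.homMk (fun ⟨p, q⟩ => (stalkTensorIso x (L.X p) (K.X q)).hom)
    (fun p p' q _ => (stalkTensorIso_hom_naturality_left x (L.d p p') (K.X q)).symm)
    (fun p q q' _ => (stalkTensorIso_hom_naturality_right x (L.X p) (K.d q q')).symm)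

instance isIso_βc : IsIso (βc x L K) := by
  have : ∀ p, IsIso ((βc x L K).f p) := fun p => by
    have : ∀ q, IsIso (((βc x L K).f p).f q) := fun q => by
      change IsIso (stalkTensorIso x (L.X p) (K.X q)).hom
      infer_instance
    exact HomologicalComplex.Hom.isIso_of_components _
  exact HomologicalComplex.Hom.isIso_of_components _

/-- the stalk of the tensor product of two complexes -/
noncomputable def stalkTotIso :
    stalkCx x ((DCoh.tensorCx.obj L).obj K) ≅ stalkCx x L ⊗ stalkCx x K :=
  totalMapIso (bicX L K) (ComplexShape.up ℤ) (stalkFunctor x) ≪≫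
    HomologicalComplex₂.total.mapIso (asIso (βc x L K)) (ComplexShape.up ℤ)

end Groth.Agent.H5.Stalk.TensorCx
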